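import Mathlib

/-!
# S3414, key lemma K2: pure group theory (helper803)

* `core_mem` : the computation with `τ`;
* `relIndex_le` : the index estimate;
* `exists_swap_normalizing` : the Frattini choice of `τ`;
* `le_of_map_le` : an `r`-group in `K w · Q` lies in `K w`.
-/

set_option autoImplicit false

namespace Cfsg.Agent.H803.RK

open Subgroup

section core

variable {A : Type*} [Group A]

theorem pow_half {a : A} {H : Subgroup A} (h2 : a * a ∈ H) (ho : Odd (orderOf a)) : a ∈ H := by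
  obtain ⟨k, hk⟩ := ho
  have h1 : a ^ (2 * k + 1) = 1 := by rw [← hk, pow_orderOf_eq_one]
  have h3 : (a * a) ^ k ∈ H := H.pow_mem h2 k
  have h4 : a * (a * a) ^ k = 1 := by
    rw [← pow_two, ← pow_mul, ← pow_succ']
    exact h1
  have h5 : a = ((a * a) ^ k)⁻¹ := eq_inv_of_mul_eq_one_left h4
  rw [h5]
  exact H.inv_mem h3

/-- the computation with `τ`: if `ρ^τ = ρ j z` then `ρ ∈ K w` -/
theorem core_mem {N Kx Kw Y : Subgroup A} (hxN : Kx ⊓ N = ⊥) (hYN : ∀ a ∈ Y, ∀ n ∈ N, a * n = n * a) (hxY : Kx ≤ Y)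
    {τ ρ j z : A} (hτ : τ ∈ Y) (h1 : ∀ a ∈ Kx, τ * a * τ⁻¹ ∈ Kw) (h2 : ∀ a ∈ Kw, τ * a * τ⁻¹ ∈ Kx) (hρ : ρ ∈ Kx)
    (hjx : j ∈ Kx) (hjw : j ∈ Kw) (hz : z ∈ N) (h : τ * ρ * τ⁻¹ = ρ * j * z)
    (hodd : Odd (orderOf ρ) ∨ ∀ n ∈ N, n * n = 1 → n = 1) : ρ ∈ Kw := by
  have hz2 : z * z = 1 := by
    have hj' : τ * j * τ⁻¹ ∈ Kx := h2 j hjw
    have e1 : τ * (τ * ρ * τ⁻¹) * τ⁻¹ = ρ * j * (τ * j * τ⁻¹) * (z * z) := by
      have ez : τ * z = z * τ := hYN τ hτ z hz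
      have e3 : τ * z * τ⁻¹ = z := by rw [ez, mul_inv_cancel_right]
      have e4 : z * (τ * j * τ⁻¹) = (τ * j * τ⁻¹) * z := (hYN _ (hxY hj') z hz).symm
      calc τ * (τ * ρ * τ⁻¹) * τ⁻¹ = τ * (ρ * j * z) * τ⁻¹ := by rw [h]
        _ = (τ * ρ * τ⁻¹) * (τ * j * τ⁻¹) * (τ * z * τ⁻¹) := by group
        _ = ρ * j * z * (τ * j * τ⁻¹) * z := by rw [h, e3]
        _ = ρ * j * (z * (τ * j * τ⁻¹)) * z := by group
        _ = _ := by rw [e4]; group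
    have h3 : z * z ∈ Kx := by
      have e2 : z * z = (ρ * j * (τ * j * τ⁻¹))⁻¹ * (τ * (τ * ρ * τ⁻¹) * τ⁻¹) := by rw [e1, inv_mul_cancel_left]
      rw [e2]
      exact mul_mem (inv_mem (mul_mem (mul_mem hρ hjx) hj')) (h2 _ (h1 _ hρ))
    have h4 : z * z ∈ Kx ⊓ N := ⟨h3, mul_mem hz hz⟩
    rw [hxN, Subgroup.mem_bot] at h4
    exact h4
  have hk : τ * ρ * τ⁻¹ * j⁻¹ ∈ Kw := mul_mem (h1 _ hρ) (inv_mem hjw)
  have ejz : j * z = z * j := hYN _ (hxY hjx) z hz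
  have eρ : ρ = τ * ρ * τ⁻¹ * j⁻¹ * z⁻¹ := by
    have e5 : ρ * j * z * j⁻¹ * z⁻¹ = ρ := by rw [mul_assoc ρ j z, ejz]; group
    rw [h, e5]
  rcases hodd with ho | ho
  · apply pow_half _ ho
    have ezρ : ρ * z = z * ρ := hYN _ (hxY hρ) z hz
    have e6 : τ * ρ * τ⁻¹ * j⁻¹ = ρ * z := by
      calc τ * ρ * τ⁻¹ * j⁻¹ = τ * ρ * τ⁻¹ * j⁻¹ * z⁻¹ * z := by group
        _ = ρ * z := by rw [← eρ]
    have e7 : ρ * ρ = (τ * ρ * τ⁻¹ * j⁻¹) * (τ * ρ * τ⁻¹ * j⁻¹) := by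
      rw [e6]
      calc ρ * ρ = ρ * ρ * (z * z) := by rw [hz2, mul_one]
        _ = ρ * (ρ * z) * z := by group
        _ = ρ * (z * ρ) * z := by rw [ezρ]
        _ = ρ * z * (ρ * z) := by group
    rw [e7]
    exact mul_mem hk hk
  · have hz1 := ho z hz hz2
    rw [eρ, hz1, inv_one, mul_one]
    exact hk

end core

section index

variable {M L : Type*} [Group M] [Group L] [Finite L]

/-- the index estimate -/
theorem relIndex_le (φ : M →* L) (R Kw : Subgroup M) (τ : L) (Q0 J : Subgroup L)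
    (hf : ∀ ρ ∈ R, τ * φ ρ * τ⁻¹ * (φ ρ)⁻¹ ∈ Q0) (hJ : ∀ ρ ∈ R, ∀ j ∈ J, φ ρ * j * (φ ρ)⁻¹ ∈ J)
    (hkey : ∀ ρ ∈ R, (φ ρ)⁻¹ * (τ * φ ρ * τ⁻¹) ∈ J → ρ ∈ Kw) : Kw.relIndex R ≤ J.relIndex Q0 := by
  let h : ↥R → ↥Q0 := fun ρ => ⟨τ * φ ρ * τ⁻¹ * (φ ρ)⁻¹, hf ρ ρ.2⟩
  have hinj : ∀ a b : ↥R, ((h a)⁻¹ * h b : ↥Q0) ∈ J.subgroupOf Q0 → a⁻¹ * b ∈ Kw.subgroupOf R := by
    intro a b hab
    rw [mem_subgroupOf] at hab ⊢
    refine hkey _ (a⁻¹ * b).2 ?_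
    have h1 := hJ (b : M)⁻¹ (inv_mem b.2) _ hab
    have e : (φ ((a⁻¹ * b : ↥R) : M))⁻¹ * (τ * φ ((a⁻¹ * b : ↥R) : M) * τ⁻¹) =
        φ (b : M)⁻¹ * (((h a)⁻¹ * h b : ↥Q0) : L) * (φ (b : M)⁻¹)⁻¹ := by
      simp only [h, Subgroup.coe_mul, Subgroup.coe_inv, map_mul, map_inv]
      group
    rw [e]
    exact h1
  let f : (↥R ⧸ Kw.subgroupOf R) → (↥Q0 ⧸ J.subgroupOf Q0) := fun q => (h q.out : ↥Q0)
  have hfi : Function.Injective f := by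
    intro q q' hqq
    have h1 := hinj _ _ (QuotientGroup.eq.1 hqq)
    rw [← Quotient.out_eq q, ← Quotient.out_eq q']
    exact QuotientGroup.eq.2 h1
  exact Nat.card_le_card_of_injective f hfi

end index

section rgroup

variable {M : Type*} [Group M] [Finite M]

omit [Finite M] in
/-- a subgroup of `K Q` whose order is prime to `p` lies in `K` when `Q` is a `p`-group normalizing `K` -/
theorem le_of_le_sup {p r : ℕ} [hp : Fact p.Prime] [hr : Fact r.Prime] (hrp : r ≠ p) {R K Q : Subgroup M} (hR : IsPGroup r ↥R)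
    (hQ : IsPGroup p ↥Q) (hQn : Q.Normal) (hQK : ∀ q ∈ Q, ∀ k ∈ K, q * k * q⁻¹ ∈ K) (h : R ≤ K ⊔ Q) : R ≤ K := by
  intro ρ hρ
  obtain ⟨k, hk, q, hq, e⟩ := Subgroup.mem_sup_of_normal_right.1 (h hρ)
  have h1 : ∀ n : ℕ, ∃ k' ∈ K, ρ ^ n = k' * q ^ n := by
    intro n
    induction n with
    | zero => exact ⟨1, one_mem _, by rw [pow_zero, pow_zero, one_mul]⟩
    | succ n ih =>
      obtain ⟨k', hk', e'⟩ := ih
      refine ⟨k' * (q ^ n * k * (q ^ n)⁻¹), mul_mem hk' (hQK _ (Q.pow_mem hq n) _ hk), ?_⟩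
      rw [pow_succ, e', ← e, pow_succ]
      group
  obtain ⟨b, hb⟩ := hQ ⟨q, hq⟩
  have hb' : q ^ p ^ b = 1 := congrArg Subtype.val hb
  obtain ⟨k', hk', e'⟩ := h1 (p ^ b)
  rw [hb', mul_one] at e'
  obtain ⟨a, ha⟩ := hR ⟨ρ, hρ⟩
  have ha' : ρ ^ r ^ a = 1 := congrArg Subtype.val ha
  have hcop : (orderOf ρ).Coprime (p ^ b) := by
    refine Nat.Coprime.coprime_dvd_left (orderOf_dvd_of_pow_eq_one ha') ?_
    exact Nat.Coprime.pow _ _ ((Nat.coprime_primes hr.out hp.out).2 hrp)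
  have h2 : ρ ∈ Subgroup.zpowers (ρ ^ p ^ b) := mem_zpowers_pow_iff.2 hcop.symm
  rw [e'] at h2
  exact (Subgroup.zpowers_le.2 hk') h2

end rgroup

section frattini

variable {L : Type*} [Group L]

theorem mem_sup_of_norm {A B : Subgroup L} (h : ∀ b ∈ B, ∀ a ∈ A, b * a * b⁻¹ ∈ A) {x : L} (hx : x ∈ A ⊔ B) :
    ∃ b ∈ B, ∃ a ∈ A, b * a = x := by
  let W : Subgroup L :=
    { carrier := {x | ∃ b ∈ B, ∃ a ∈ A, b * a = x}
      one_mem' := ⟨1, one_mem _, 1, one_mem _, one_mul _⟩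
      mul_mem' := by
        rintro _ _ ⟨b, hb, a, ha, rfl⟩ ⟨b', hb', a', ha', rfl⟩
        refine ⟨b * b', mul_mem hb hb', b'⁻¹ * a * b' * a', mul_mem ?_ ha', by group⟩
        have := h b'⁻¹ (inv_mem hb') a ha
        rwa [inv_inv] at this
      inv_mem' := by
        rintro _ ⟨b, hb, a, ha, rfl⟩
        exact ⟨b⁻¹, inv_mem hb, b * a⁻¹ * b⁻¹, h b hb _ (inv_mem ha), by group⟩ }
  have h1 : A ⊔ B ≤ W := sup_le (fun a ha => ⟨1, one_mem _, a, ha, one_mul _⟩) fun b hb => ⟨b, hb, 1, one_mem _, mul_one _⟩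
  exact h1 hx

variable [Finite L]

/-- the Frattini choice of `τ` -/
theorem exists_normalizing {r : ℕ} [hr : Fact r.Prime] {S X Q : Subgroup L} (hQS : Q ≤ S)
    (hQ : Nat.card ↥Q = r ^ (Nat.card ↥S).factorization r) {τ : L} (hτ : τ ∈ X) (hSτ : ∀ s ∈ S, τ * s * τ⁻¹ ∈ S)
    (hX : ∀ s ∈ S, ∀ x ∈ X, s * x * s⁻¹ ∈ X) :
    ∃ s ∈ X ⊓ S, ∀ q ∈ Q, s * τ * q * (s * τ)⁻¹ ∈ Q := by
  have hnorm : ∀ b ∈ Q, ∀ a ∈ X ⊓ S, b * a * b⁻¹ ∈ X ⊓ S := fun b hb a ha =>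
    ⟨hX b (hQS hb) a ha.1, S.mul_mem (S.mul_mem (hQS hb) ha.2) (S.inv_mem (hQS hb))⟩
  set T : Subgroup L := (X ⊓ S) ⊔ Q with hT
  have hTS : T ≤ S := sup_le inf_le_right hQS
  have hQT : Q ≤ T := le_sup_right
  set Q2 : Subgroup L := Q.map (MulAut.conj τ).toMonoidHom with hQ2
  have hQ2T : Q2 ≤ T := by
    rintro _ ⟨q, hq, rfl⟩
    have e : (MulAut.conj τ).toMonoidHom q = τ * (q * τ⁻¹ * q⁻¹) * q := by
      simp only [MulEquiv.coe_toMonoidHom, MulAut.conj_apply]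
      group
    have h1 : τ * (q * τ⁻¹ * q⁻¹) ∈ X ⊓ S := by
      refine ⟨X.mul_mem hτ (hX q (hQS hq) _ (X.inv_mem hτ)), ?_⟩
      have : τ * (q * τ⁻¹ * q⁻¹) = τ * q * τ⁻¹ * q⁻¹ := by group
      rw [this]
      exact S.mul_mem (hSτ q (hQS hq)) (S.inv_mem (hQS hq))
    rw [e]
    exact mul_mem (le_sup_left (a := X ⊓ S) h1) (hQT hq)
  have hT0 : Nat.card ↥T ≠ 0 := Nat.card_pos.ne'
  have hS0 : Nat.card ↥S ≠ 0 := Nat.card_pos.ne'
  have hcT : (Nat.card ↥T).factorization r = (Nat.card ↥S).factorization r := by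
    apply le_antisymm
    · exact (Nat.factorization_le_iff_dvd hT0 hS0).2 (Subgroup.card_dvd_of_le hTS) r
    · have h1 : r ^ (Nat.card ↥S).factorization r ∣ Nat.card ↥T := by
        rw [← hQ]; exact Subgroup.card_dvd_of_le hQT
      exact (hr.out.pow_dvd_iff_le_factorization hT0).1 h1
  have hc1 : Nat.card ↥(Q.subgroupOf T) = r ^ (Nat.card ↥T).factorization r := by
    rw [hcT, ← hQ]
    exact Nat.card_congr (Subgroup.subgroupOfEquivOfLe hQT).toEquiv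
  have hc2 : Nat.card ↥(Q2.subgroupOf T) = r ^ (Nat.card ↥T).factorization r := by
    rw [hcT, ← hQ, Nat.card_congr (Subgroup.subgroupOfEquivOfLe hQ2T).toEquiv]
    exact (Nat.card_congr (Q.equivMapOfInjective _ (MulAut.conj τ).injective).toEquiv).symm
  obtain ⟨t, ht⟩ := MulAction.exists_smul_eq ↥T (Sylow.ofCard (Q2.subgroupOf T) hc2) (Sylow.ofCard (Q.subgroupOf T) hc1)
  obtain ⟨b, hb, a, ha, hba⟩ := mem_sup_of_norm hnorm t.2
  refine ⟨a, ha, fun q hq => ?_⟩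
  have h1 : (t : L) * (τ * q * τ⁻¹) * (t : L)⁻¹ ∈ Q := by
    have h2 : (⟨τ * q * τ⁻¹, hQ2T ⟨q, hq, rfl⟩⟩ : ↥T) ∈ (Sylow.ofCard (Q2.subgroupOf T) hc2 : Sylow r ↥T) :=
      mem_subgroupOf.2 ⟨q, hq, rfl⟩
    have h3 : t * ⟨τ * q * τ⁻¹, hQ2T ⟨q, hq, rfl⟩⟩ * t⁻¹ ∈
        ((t • Sylow.ofCard (Q2.subgroupOf T) hc2 : Sylow r ↥T) : Subgroup ↥T) := by
      rw [Sylow.coe_subgroup_smul]
      exact ⟨_, h2, rfl⟩
    rw [ht] at h3
    exact mem_subgroupOf.1 h3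
  rw [← hba] at h1
  have h4 : b⁻¹ * (b * a * (τ * q * τ⁻¹) * (b * a)⁻¹) * b ∈ Q := mul_mem (mul_mem (inv_mem hb) h1) hb
  have e : b⁻¹ * (b * a * (τ * q * τ⁻¹) * (b * a)⁻¹) * b = a * τ * q * (a * τ)⁻¹ := by group
  rwa [e] at h4

end frattini

section counting

variable {M : Type*} [Group M] [Finite M]

omit [Finite M] in
theorem card_mul_relIndex {D H : Subgroup M} (h : D ≤ H) : Nat.card ↥D * D.relIndex H = Nat.card ↥H := by
  have h1 := (D.subgroupOf H).card_mul_index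
  rwa [Nat.card_congr (Subgroup.subgroupOfEquivOfLe h).toEquiv] at h1

omit [Finite M] in
/-- the image of a pair `D ≤ H` -/
theorem relIndex_map_dvd {L : Type*} [Group L] (φ : M →* L) {D H : Subgroup M} :
    (D.map φ).relIndex (H.map φ) ∣ D.relIndex H := by
  have h1 : ((D.subgroupOf H).map (φ.subgroupMap H)).index ∣ (D.subgroupOf H).index :=
    Subgroup.index_map_dvd _ (φ.subgroupMap_surjective H)
  refine dvd_trans (Subgroup.index_dvd_of_le ?_) h1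
  rintro _ ⟨g, hg, rfl⟩
  exact mem_subgroupOf.2 ⟨g, hg, rfl⟩

/-- a normal subgroup and an `r`-subgroup -/
theorem relIndex_le_pow {r : ℕ} [hr : Fact r.Prime] {D H Q : Subgroup M} (hn : ∀ h ∈ H, ∀ d ∈ D, h * d * h⁻¹ ∈ D)
    (hQH : Q ≤ H) (hQ : IsPGroup r ↥Q) : D.relIndex Q ≤ r ^ (D.relIndex H).factorization r := by
  have hn' : (D.subgroupOf H).Normal := ⟨fun a ha g => hn g g.2 a ha⟩
  have h1 : D.relIndex Q ∣ D.relIndex H := by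
    have h2 : (D.subgroupOf H).relIndex (Q.subgroupOf H) ∣ (D.subgroupOf H).index :=
      Subgroup.relIndex_dvd_index_of_normal _ _
    rwa [Subgroup.relIndex_subgroupOf hQH] at h2
  obtain ⟨n, hn⟩ := IsPGroup.iff_card.1 hQ
  obtain ⟨k, -, hk⟩ := (Nat.dvd_prime_pow hr.out).1 (hn ▸ Subgroup.relIndex_dvd_card D Q)
  have h0 : D.relIndex H ≠ 0 := (Subgroup.index_ne_zero_of_finite (H := D.subgroupOf H))
  rw [hk] at h1 ⊢
  exact Nat.pow_le_pow_right hr.out.pos ((hr.out.pow_dvd_iff_le_factorization h0).1 h1)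

end counting

end Cfsg.Agent.H803.RK
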