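import Cfsg.Agent.H873.Tits.AsmA
import Cfsg.Agent.H803.RK.Grp
import Cfsg.Agent.Lib.Cores

/-!
# S3414, key lemma K2 (helper803)

`st_key_nonaff : StKeyNonaff`.
-/

set_option autoImplicit false
set_option linter.unusedSectionVars false

namespace Cfsg.Agent.H803.RK

open Subgroup Cfsg.Agent.H873.Tits Cfsg.Agent.Lib.Cores

universe u v

section geom

variable {G : Type u} [Group G] {V : Type v} [MulAction G V] {P : Pol G V}

theorem conj_K {g a : G} {u : V} (ha : a ∈ P.K u) : g * a * g⁻¹ ∈ P.K (g • u) := by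
  refine ⟨?_, fun w hw => ?_⟩
  · rw [mul_smul, mul_smul, inv_smul_smul, ha.1]
  · have h1 : P.adj u (g⁻¹ • w) := by
      have := P.smul_adj g⁻¹ hw
      rwa [inv_smul_smul] at this
    rw [mul_smul, mul_smul, ha.2 _ h1, smul_inv_smul]

theorem conj_K' {g a : G} {u : V} (hg : g • u = u) (ha : a ∈ P.K u) : g * a * g⁻¹ ∈ P.K u := by
  have := conj_K (g := g) ha
  rwa [hg] at this

theorem mem_PS {k : ℕ} {p : ℕ → V} {g : G} : g ∈ P.PS k p ↔ ∀ i, i ≤ k → g • p i = p i := by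
  unfold Pol.PS
  rw [Subgroup.mem_iInf]
  constructor
  · intro h i hi
    exact h ⟨i, hi⟩
  · intro h i
    exact h i.1 i.2

theorem smul_path {k : ℕ} {p : ℕ → V} (h : IsPath P.adj k p) (g : G) : IsPath P.adj k (fun i => g • p i) :=
  ⟨fun i hi => P.smul_adj g (h.1 i hi), fun i hi e => h.2 i hi (MulAction.injective g e)⟩

/-- the path through `x, y, w` and the fixed elements -/
theorem exists_good_path (F : Facts P) {x y y' w : V} (hxy : P.adj x y) (hyw : P.adj y w) (hwx : w ≠ x) (ho : P.Opp y y') :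
    ∃ p : ℕ → V, IsPath P.adj (P.n + 1) p ∧ p 1 = x ∧ p 2 = y ∧ p 3 = w ∧
      ∀ g : G, g • y = y → g • y' = y' → g • x = x → g • w = w → g ∈ P.H p := by
  obtain ⟨z1, hz1⟩ := F.proj_exists ho (P.symm hxy)
  obtain ⟨w2, b, hb, hb0, hb1, hb2, hbn⟩ := F.proj_exists ho hyw
  have hz1' := hz1
  obtain ⟨a, ha, ha0, ha1, ha2, han⟩ := hz1'
  have hn : 4 ≤ P.n := by rcases P.hn with h | h | h <;> omega
  let p : ℕ → V := fun i => match i with
    | 0 => z1
    | 1 => x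
    | k + 2 => b k
  refine ⟨p, ⟨?_, ?_⟩, rfl, hb0, hb1, ?_⟩
  · intro i hi
    match i, hi with
    | 0, _ =>
      show P.adj z1 x
      have := ha.1 1 (by omega)
      rw [ha1, ha2] at this
      exact P.symm this
    | 1, _ =>
      show P.adj x (b 0)
      rw [hb0]; exact hxy
    | k + 2, hk =>
      show P.adj (b k) (b (k + 1))
      exact hb.1 k (by omega)
  · intro i hi
    match i, hi with
    | 0, _ =>
      show b 0 ≠ z1
      have := ha.2 0 (by omega)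
      rw [ha2, ha0] at this
      rw [hb0]; exact this.symm
    | 1, _ =>
      show b 1 ≠ x
      rw [hb1]; exact hwx
    | k + 2, hk =>
      show b (k + 2) ≠ b k
      exact hb.2 k (by omega)
  · intro g hgy hgy' hgx hgw
    have hbk : ∀ k, k ≤ P.n → g • b k = b k := by
      intro k hk
      rcases Nat.eq_zero_or_pos k with h0 | hpos
      · rw [h0, hb0, hgy]
      · have h1 : IsPath P.adj (P.n - 1) (fun i => b (i + 1)) :=
          ⟨fun i hi => hb.1 (i + 1) (by omega), fun i hi => hb.2 (i + 1) (by omega)⟩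
        have h2 := smul_path h1 g
        have h3 := P.path_unique h2 h1 (by show g • b 1 = b 1; rw [hb1, hgw])
          (by show g • b (P.n - 1 + 1) = b (P.n - 1 + 1)
              rw [show P.n - 1 + 1 = P.n by omega, hbn, hgy']) (by omega)
        have h4 := h3.2 (k - 1) (by omega)
        rwa [show k - 1 + 1 = k by omega] at h4
    refine mem_PS.2 fun i hi => ?_
    match i, hi with
    | 0, _ => exact F.proj_fix hz1 hgy hgx hgy'
    | 1, _ => exact hgx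
    | k + 2, hk => exact hbk k (by omega)

/-- the kernel on the neighbours of `u`, inside `S y` -/
def KM (P : Pol G V) (y u : V) : Subgroup ↥(P.S y) := (P.K u).subgroupOf (P.S y)

theorem mem_KM {y u : V} {g : ↥(P.S y)} : g ∈ KM P y u ↔ (g : G) ∈ P.K u := Iff.rfl

theorem conj_KM {y u : V} {g a : ↥(P.S y)} (ha : a ∈ KM P y u) : g * a * g⁻¹ ∈ KM P y ((g : G) • u) :=
  conj_K (g := (g : G)) ha

theorem conj_KM' {y u : V} {g a : ↥(P.S y)} (hg : (g : G) • u = u) (ha : a ∈ KM P y u) : g * a * g⁻¹ ∈ KM P y u :=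
  conj_K' (g := (g : G)) hg ha

theorem KM_normal (y : V) : (KM P y y).Normal := ⟨fun _ ha g => conj_KM' g.2 ha⟩

theorem ker_toPerm (y : V) : (P.toPerm y).ker = KM P y y := by
  ext g
  rw [MonoidHom.mem_ker]
  constructor
  · intro h
    refine ⟨g.2, fun w hw => ?_⟩
    have h1 := congrArg (fun f : Equiv.Perm {w : V // P.adj y w} => ((f ⟨w, hw⟩ : {w : V // P.adj y w}) : V)) h
    exact h1
  · intro h
    ext w
    exact h.2 w.1 w.2

/-- the join of the `K u`, `u ~ y` -/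
def YM (P : Pol G V) (y : V) : Subgroup ↥(P.S y) := ⨆ u : {u : V // P.adj y u}, KM P y u.1

theorem KM_le_YM {y u : V} (h : P.adj y u) : KM P y u ≤ YM P y := le_iSup (fun u : {u : V // P.adj y u} => KM P y u.1) ⟨u, h⟩

theorem conj_YM {y : V} (g a : ↥(P.S y)) (ha : a ∈ YM P y) : g * a * g⁻¹ ∈ YM P y := by
  have h : YM P y ≤ (YM P y).comap (MulAut.conj g).toMonoidHom := by
    refine iSup_le fun u => ?_
    intro b hb
    rw [Subgroup.mem_comap]
    have h1 := conj_KM (g := g) hb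
    have h2 : P.adj y ((g : G) • u.1) := by
      have := P.smul_adj (g : G) u.2
      rwa [show (g : G) • y = y from g.2] at this
    exact KM_le_YM h2 h1
  exact h ha

end geom

section qq

variable {G : Type u} [Group G] [Finite G] {V : Type v} [Finite V] [MulAction G V] {P : Pol G V}

/-- `O_p (K y)` as a subgroup of `S y` -/
noncomputable def QM (P : Pol G V) (p : ℕ) (y : V) : Subgroup ↥(P.S y) :=
  (Cfsg.pCore p ↥(KM P y y)).map (KM P y y).subtype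

theorem QM_le (p : ℕ) (y : V) : QM P p y ≤ KM P y y := Subgroup.map_subtype_le _

theorem QM_normal (p : ℕ) (y : V) : (QM P p y).Normal := by
  have := KM_normal (P := P) y
  have : (Cfsg.pCore p ↥(KM P y y)).Characteristic := pCore_characteristic p
  exact ConjAct.normal_of_characteristic_of_normal

theorem QM_pgroup {p : ℕ} (hp : p.Prime) (y : V) : IsPGroup p ↥(QM P p y) := by
  have := Fact.mk hp
  have h : IsPGroup p ↥(Cfsg.pCore p ↥(KM P y y)) := pCore_isPGroup p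
  exact h.map _

theorem E_le {p : ℕ} (h : CaseA P p) {x y : V} (hxy : P.adj x y) : KM P y x ⊓ KM P y y ≤ QM P p y := by
  have := Fact.mk h.prime
  have h1 : ((KM P y x).subgroupOf (KM P y y)) ≤ Cfsg.pCore p ↥(KM P y y) := by
    apply le_pCore
    · constructor
      intro a ha g
      rw [mem_subgroupOf] at ha ⊢
      refine conj_KM' (g := (g : ↥(P.S y))) ?_ ha
      exact (g.2 : (g : G) ∈ P.K y).2 x (P.symm hxy)
    · intro a
      have h2 : ((a : ↥(KM P y y)) : G) ∈ P.K x ⊓ P.K y := ⟨a.2, (a : ↥(KM P y y)).2⟩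
      obtain ⟨k, hk⟩ := h.pgroup hxy ⟨_, h2⟩
      refine ⟨k, ?_⟩
      have h3 := congrArg Subtype.val hk
      apply Subtype.ext
      apply Subtype.ext
      apply Subtype.ext
      exact h3
  rintro a ⟨ha, ha'⟩
  exact ⟨⟨a, ha'⟩, h1 (mem_subgroupOf.2 ha), rfl⟩

/-- the image of `K u` in `S y / O_p (K y)` -/
noncomputable def Kb (P : Pol G V) (p : ℕ) (y u : V) [(QM P p y).Normal] : Subgroup (↥(P.S y) ⧸ QM P p y) :=
  (KM P y u).map (QuotientGroup.mk' (QM P p y))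

variable {p : ℕ} {y : V} [(QM P p y).Normal]

theorem Kb_inf (h : CaseA P p) {x : V} (hxy : P.adj x y) : Kb P p y x ⊓ Kb P p y y = ⊥ := by
  rw [eq_bot_iff]
  rintro _ ⟨⟨k, hk, rfl⟩, ⟨n, hn, e⟩⟩
  have h1 : k⁻¹ * n ∈ QM P p y := QuotientGroup.eq.1 e.symm
  have h2 : k ∈ KM P y y := by
    have h3 : k⁻¹ * n ∈ KM P y y := QM_le p y h1
    have h4 : k = n * (k⁻¹ * n)⁻¹ := by group
    rw [h4]
    exact mul_mem hn (inv_mem h3)
  exact (QuotientGroup.eq_one_iff k).2 (E_le h hxy ⟨hk, h2⟩)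

theorem Kb_comm (h : CaseA P p) {x : V} (hxy : P.adj x y) (k n : ↥(P.S y)) (hk : k ∈ KM P y x) (hn : n ∈ KM P y y) :
    QuotientGroup.mk' (QM P p y) k * QuotientGroup.mk' (QM P p y) n =
      QuotientGroup.mk' (QM P p y) n * QuotientGroup.mk' (QM P p y) k := by
  rw [← map_mul, ← map_mul]
  apply QuotientGroup.eq.2
  have h1 : (k * n)⁻¹ * (n * k) = n⁻¹ * (k⁻¹ * n * k⁻¹⁻¹) := by group
  have h2 : (k * n)⁻¹ * (n * k) = (n⁻¹ * k⁻¹ * n⁻¹⁻¹) * k := by group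
  apply E_le h hxy
  constructor
  · rw [h2]
    have h3 : n⁻¹ ∈ KM P y y := (KM P y y).inv_mem hn
    exact (KM P y x).mul_mem (conj_KM' (h3.2 x (P.symm hxy)) ((KM P y x).inv_mem hk)) hk
  · rw [h1]
    exact (KM P y y).mul_mem ((KM P y y).inv_mem hn) (conj_KM' (k⁻¹ : ↥(P.S y)).2 hn)

theorem YM_comm (h : CaseA P p) (a : ↥(P.S y) ⧸ QM P p y) (ha : a ∈ (YM P y).map (QuotientGroup.mk' (QM P p y)))
    (n : ↥(P.S y) ⧸ QM P p y) (hn : n ∈ Kb P p y y) : a * n = n * a := by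
  have h1 : YM P y ≤ (Subgroup.centralizer ((Kb P p y y : Subgroup _) : Set (↥(P.S y) ⧸ QM P p y))).comap
      (QuotientGroup.mk' (QM P p y)) := by
    refine iSup_le fun u => ?_
    intro k hk
    rw [Subgroup.mem_comap, Subgroup.mem_centralizer_iff]
    rintro _ ⟨n, hn, rfl⟩
    exact (Kb_comm h (P.symm u.2) k n hk hn).symm
  obtain ⟨k, hk, rfl⟩ := ha
  exact ((Subgroup.mem_centralizer_iff.1 (h1 hk)) n hn).symm

theorem conj_Kb {u u' : V} {g : ↥(P.S y)} (hg : (g : G) • u = u') (a : ↥(P.S y) ⧸ QM P p y) (ha : a ∈ Kb P p y u) :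
    QuotientGroup.mk' (QM P p y) g * a * (QuotientGroup.mk' (QM P p y) g)⁻¹ ∈ Kb P p y u' := by
  obtain ⟨k, hk, rfl⟩ := ha
  rw [← map_inv, ← map_mul, ← map_mul]
  subst hg
  exact ⟨_, conj_KM hk, rfl⟩

/-- the image of `K x ∩ K w` modulo `O_p (K y)`, acting on the neighbours of `y` -/
noncomputable def JJ (P : Pol G V) (p : ℕ) (x y w : V) [(QM P p y).Normal] : Subgroup (Equiv.Perm {w : V // P.adj y w}) :=
  ((Kb P p y x ⊓ Kb P p y w).comap (QuotientGroup.mk' (QM P p y))).map (P.toPerm y)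

theorem img_le_JJ {x w : V} : P.img y (P.K x ⊓ P.K w) ≤ JJ P p x y w := by
  rintro _ ⟨g, hg, rfl⟩
  have hg : (g : G) ∈ P.K x ⊓ P.K w := hg
  exact ⟨g, ⟨⟨g, hg.1, rfl⟩, ⟨g, hg.2, rfl⟩⟩, rfl⟩

/-- the hypothesis of the key computation -/
theorem key_step (h : CaseA P p) {r : ℕ} (hr : r.Prime) (hrp : r ≠ p) {x w : V} (hxy : P.adj x y) (hwy : P.adj w y)
    (hodd : r ≠ 2 ∨ ¬ 2 ∣ Nat.card ↥(P.K y)) {R : Subgroup ↥(P.S y)} (hR : IsPGroup r ↥R) {τ ρ : ↥(P.S y)} (hτ : τ ∈ YM P y)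
    (h1 : (τ : G) • x = w) (h2 : (τ : G) • w = x) (hρR : ρ ∈ R) (hρ : ρ ∈ KM P y x)
    (hJ : (P.toPerm y ρ)⁻¹ * (P.toPerm y τ * P.toPerm y ρ * (P.toPerm y τ)⁻¹) ∈ JJ P p x y w) : ρ ∈ KM P y w := by
  have := Fact.mk hr
  have := Fact.mk h.prime
  obtain ⟨g, hg, e⟩ := hJ
  have h3 : g⁻¹ * (ρ⁻¹ * (τ * ρ * τ⁻¹)) ∈ KM P y y := by
    rw [← ker_toPerm, MonoidHom.mem_ker]
    simp only [map_mul, map_inv]
    rw [e]
    simp only [mul_inv_rev, inv_inv]
    group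
  set β := QuotientGroup.mk' (QM P p y) with hβ
  have h4 : β ρ ∈ Kb P p y w := by
    refine core_mem (N := Kb P p y y) (Kx := Kb P p y x) (Kw := Kb P p y w) (Y := (YM P y).map β) (Kb_inf h hxy)
      (YM_comm h) (Subgroup.map_mono (KM_le_YM (P.symm hxy))) (τ := β τ) (j := β g)
      (z := β (g⁻¹ * (ρ⁻¹ * (τ * ρ * τ⁻¹)))) ⟨τ, hτ, rfl⟩ (fun a ha => conj_Kb h1 a ha) (fun a ha => conj_Kb h2 a ha)
      ⟨ρ, hρ, rfl⟩ hg.1 hg.2 ⟨_, h3, rfl⟩ ?_ ?_
    · rw [← map_inv, ← map_mul, ← map_mul, ← map_mul, ← map_mul]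
      congr 1
      group
    · by_cases hr2 : r = 2
      · right
        intro n hn hnn
        have hc : ¬ 2 ∣ Nat.card ↥(P.K y) := hodd.resolve_left (fun h => h hr2)
        have h5 : Nat.card ↥(KM P y y) = Nat.card ↥(P.K y) :=
          Nat.card_congr (Subgroup.subgroupOfEquivOfLe (P.K_le_S y)).toEquiv
        have h6 : orderOf n ∣ 2 := orderOf_dvd_of_pow_eq_one (by rw [pow_two, hnn])
        have h7 : orderOf n ∣ Nat.card ↥(KM P y y) := by
          have h8 : Nat.card ↥(Kb P p y y) ∣ Nat.card ↥(KM P y y) := Subgroup.card_map_dvd _ _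
          refine dvd_trans ?_ h8
          exact (Subgroup.orderOf_dvd_natCard _ hn)
        rcases (Nat.dvd_prime Nat.prime_two).1 h6 with h9 | h9
        · exact orderOf_eq_one_iff.1 h9
        · rw [h9, h5] at h7
          exact absurd h7 hc
      · left
        obtain ⟨k, hk⟩ := hR ⟨ρ, hρR⟩
        have hk' : ρ ^ r ^ k = 1 := congrArg Subtype.val hk
        have h6 : orderOf (β ρ) ∣ r ^ k := orderOf_dvd_of_pow_eq_one (by rw [← map_pow, hk', map_one])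
        exact Odd.of_dvd_nat ((hr.odd_of_ne_two hr2).pow) h6
  have h5 : ρ ∈ KM P y w ⊔ QM P p y := by
    have h6 : ρ ∈ (Kb P p y w).comap β := h4
    rw [show Kb P p y w = (KM P y w).map β from rfl, Subgroup.comap_map_eq, QuotientGroup.ker_mk'] at h6
    exact h6
  have hz : Subgroup.zpowers ρ ≤ KM P y w := by
    refine le_of_le_sup hrp (hR.to_le (Subgroup.zpowers_le.2 hρR)) (QM_pgroup h.prime y) inferInstance ?_
      (Subgroup.zpowers_le.2 h5)
    intro q hq k hk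
    exact conj_KM' ((QM_le p y hq).2 w (P.symm hwy)) hk
  exact hz (Subgroup.mem_zpowers ρ)

end qq

section main

variable {G : Type u} [Group G] [Finite G] {V : Type v} [Finite V] [MulAction G V] {P : Pol G V}

/-- `X ≤` the group induced by the `K u`, `u ~ y` -/
theorem le_map_YM {p : ℕ} (hA : CaseA P p) {x y : V} (hxy : P.adj x y)
    {X : Subgroup (Equiv.Perm {w : V // P.adj y w})}
    (hmin : ∀ N : Subgroup (Equiv.Perm {w : V // P.adj y w}), N ≤ P.L y → (N.subgroupOf (P.L y)).Normal → N ≠ ⊥ → X ≤ N) :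
    X ≤ (YM P y).map (P.toPerm y) := by
  apply hmin
  · rintro _ ⟨g, -, rfl⟩
    exact mem_L.2 ⟨g, g.2, rfl⟩
  · constructor
    rintro ⟨f, hf⟩ hfY ⟨h, hh⟩
    rw [mem_subgroupOf] at hfY ⊢
    obtain ⟨g, hg, e⟩ := hfY
    obtain ⟨k, hk, e'⟩ := mem_L.1 hh
    refine ⟨⟨k, hk⟩ * g * (⟨k, hk⟩ : ↥(P.S y))⁻¹, conj_YM _ _ hg, ?_⟩
    rw [map_mul, map_mul, map_inv, e, e']
    rfl
  · intro h0
    obtain ⟨Q, hQ, -, -, hQy⟩ := hA.big (P.symm hxy)
    apply hQy
    intro g hg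
    have hgx : g ∈ P.K x := hQ hg
    have hgy : g • y = y := hgx.2 y hxy
    have h1 : P.toPerm y ⟨g, hgy⟩ ∈ (YM P y).map (P.toPerm y) :=
      ⟨⟨g, hgy⟩, KM_le_YM (P.symm hxy) hgx, rfl⟩
    rw [h0, Subgroup.mem_bot, ← MonoidHom.mem_ker, ker_toPerm] at h1
    exact h1

/-- the bound for `|K x ∩ S w|_r` -/
theorem card_le {p : ℕ} (hA : CaseA P p) {x y y' w : V} (hxy : P.adj x y) (hyw : P.adj y w) (hxw : x ≠ w)
    {r : ℕ} (hr : r.Prime) (hrp : r ≠ p)
    (X : Subgroup (Equiv.Perm {w : V // P.adj y w})) (hXL' : X ≤ P.L' y y') (hXn : (X.subgroupOf (P.L y)).Normal) (hsw : Swap X)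
    (hmin : ∀ N : Subgroup (Equiv.Perm {w : V // P.adj y w}), N ≤ P.L y → (N.subgroupOf (P.L y)).Normal → N ≠ ⊥ → X ≤ N)
    (hodd : r ≠ 2 ∨ ¬ 2 ∣ Nat.card ↥(P.K y)) {H : Subgroup G}
    (hH : ∀ g : G, g • y = y → g • y' = y' → g • x = x → g • w = w → g ∈ H) (hHx : H ≤ P.S x) (hHy : H ≤ P.S y) (hHw : H ≤ P.S w) :
    (Nat.card ↥(P.K x ⊓ P.S w)).factorization r + (Nat.card ↥(P.K x ⊓ P.K w ⊓ H)).factorization r ≤
      (Nat.card ↥(P.K x ⊓ P.K w)).factorization r + (Nat.card ↥H).factorization r := by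
  have := Fact.mk hr
  have hQn := QM_normal (P := P) p y
  set φ := P.toPerm y with hφ
  have hXY := le_map_YM hA hxy hmin
  have hyx : P.adj y x := P.symm hxy
  set S := P.img y (P.S x ⊓ P.S w) with hS
  -- the Sylow subgroup `R` of `K x ∩ S w`
  set B : Subgroup ↥(P.S y) := (P.K x ⊓ P.S w).subgroupOf (P.S y) with hB
  have hKS : P.K x ⊓ P.S w ≤ P.S y := fun g hg => hg.1.2 y hxy
  let R0 : Sylow r ↥B := default
  set R : Subgroup ↥(P.S y) := (R0 : Subgroup ↥B).map B.subtype with hRdef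
  have hRB : R ≤ B := Subgroup.map_subtype_le _
  have hRp : IsPGroup r ↥R := R0.isPGroup'.map _
  have hRcard : Nat.card ↥R = r ^ (Nat.card ↥(P.K x ⊓ P.S w)).factorization r := by
    rw [← Nat.card_congr (Subgroup.subgroupOfEquivOfLe hKS).toEquiv, ← R0.card_eq_multiplicity]
    exact (Nat.card_congr ((R0 : Subgroup ↥B).equivMapOfInjective _ B.subtype_injective).toEquiv).symm
  -- `QL`
  have hRS : R.map φ ≤ S := by
    rintro _ ⟨g, hg, rfl⟩
    have h1 : (g : G) ∈ P.K x ⊓ P.S w := hRB hg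
    exact mem_img.2 ⟨g, ⟨P.K_le_S x h1.1, h1.2⟩, g.2, rfl⟩
  obtain ⟨P0, hP0⟩ := (IsPGroup.exists_le_sylow (hRp.map φ |>.comap_subtype (K := S)) : _)
  set QL : Subgroup (Equiv.Perm {w : V // P.adj y w}) := (P0 : Subgroup ↥S).map S.subtype with hQLdef
  have hQLS : QL ≤ S := Subgroup.map_subtype_le _
  have hQLp : IsPGroup r ↥QL := P0.isPGroup'.map _
  have hQLcard : Nat.card ↥QL = r ^ (Nat.card ↥S).factorization r := by
    rw [← P0.card_eq_multiplicity]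
    exact (Nat.card_congr ((P0 : Subgroup ↥S).equivMapOfInjective _ S.subtype_injective).toEquiv).symm
  have hRQ : R.map φ ≤ QL := by
    intro f hf
    exact ⟨⟨f, hRS hf⟩, hP0 (mem_subgroupOf.2 hf), rfl⟩
  -- `τ`
  have hXL : ∀ s ∈ P.L y, ∀ f ∈ X, s * f * s⁻¹ ∈ X := by
    intro s hs f hf
    have hfL : f ∈ P.L y := L'_le_L (hXL' hf)
    exact mem_subgroupOf.1 (hXn.conj_mem ⟨f, hfL⟩ (mem_subgroupOf.2 hf) ⟨s, hs⟩)
  have hSL : S ≤ P.L y := img_le_L _
  obtain ⟨τ0, hτ0, h01, h02⟩ := hsw ⟨x, hyx⟩ ⟨w, hyw⟩ (fun e => hxw (congrArg Subtype.val e))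
  have hS' : S = Stb (P.L y) ⟨x, hyx⟩ ⊓ Stb (P.L y) ⟨w, hyw⟩ := (stb_stb_L hyx hyw).symm
  have hτL : τ0 ∈ P.L y := L'_le_L (hXL' hτ0)
  have h01' : τ0⁻¹ ⟨w, hyw⟩ = ⟨x, hyx⟩ := Equiv.Perm.inv_eq_iff_eq.2 h01.symm
  have h02' : τ0⁻¹ ⟨x, hyx⟩ = ⟨w, hyw⟩ := Equiv.Perm.inv_eq_iff_eq.2 h02.symm
  have hSτ : ∀ s ∈ S, τ0 * s * τ0⁻¹ ∈ S := by
    intro s hs
    rw [hS'] at hs ⊢
    obtain ⟨⟨hsL, hs1⟩, ⟨-, hs2⟩⟩ := hs
    have hL : τ0 * s * τ0⁻¹ ∈ P.L y := mul_mem (mul_mem hτL hsL) (inv_mem hτL)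
    refine ⟨⟨hL, ?_⟩, ⟨hL, ?_⟩⟩
    · show τ0 (s (τ0⁻¹ ⟨x, hyx⟩)) = ⟨x, hyx⟩
      rw [h02', show s ⟨w, hyw⟩ = ⟨w, hyw⟩ from hs2, h02]
    · show τ0 (s (τ0⁻¹ ⟨w, hyw⟩)) = ⟨w, hyw⟩
      rw [h01', show s ⟨x, hyx⟩ = ⟨x, hyx⟩ from hs1, h01]
  obtain ⟨s, hs, hnorm⟩ := exists_normalizing hQLS hQLcard hτ0 hSτ (fun s hs x hx => hXL s (hSL hs) x hx)
  have hsS := hs.2
  rw [hS'] at hsS
  obtain ⟨⟨-, hs1⟩, ⟨-, hs2⟩⟩ := hsS
  set τ := s * τ0 with hτdef
  have hτX : τ ∈ X := mul_mem hs.1 hτ0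
  have h1 : τ ⟨x, hyx⟩ = ⟨w, hyw⟩ := by
    show s (τ0 ⟨x, hyx⟩) = _
    rw [h01]; exact hs2
  have h2 : τ ⟨w, hyw⟩ = ⟨x, hyx⟩ := by
    show s (τ0 ⟨w, hyw⟩) = _
    rw [h02]; exact hs1
  obtain ⟨t, htY, ht⟩ := hXY hτX
  have ht1 : (t : G) • x = w := by
    have h3 : φ t ⟨x, hyx⟩ = ⟨w, hyw⟩ := by rw [ht, h1]
    exact congrArg Subtype.val h3
  have ht2 : (t : G) • w = x := by
    have h3 : φ t ⟨w, hyw⟩ = ⟨x, hyx⟩ := by rw [ht, h2]
    exact congrArg Subtype.val h3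
  -- the index estimate
  have hkey : (KM P y w).relIndex R ≤ (JJ P p x y w).relIndex (QL ⊓ X) := by
    refine relIndex_le φ R (KM P y w) τ (QL ⊓ X) (JJ P p x y w) ?_ ?_ ?_
    · intro ρ hρ
      have h3 : φ ρ ∈ QL := hRQ ⟨ρ, hρ, rfl⟩
      refine ⟨QL.mul_mem (hnorm _ h3) (QL.inv_mem h3), ?_⟩
      have h4 : τ * φ ρ * τ⁻¹ * (φ ρ)⁻¹ = τ * (φ ρ * τ⁻¹ * (φ ρ)⁻¹) := by group
      rw [h4]
      exact X.mul_mem hτX (hXL _ (hSL (hQLS h3)) _ (X.inv_mem hτX))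
    · rintro ρ hρ _ ⟨g, hg, rfl⟩
      have h5 : (ρ : G) ∈ P.K x ⊓ P.S w := hRB hρ
      refine ⟨ρ * g * ρ⁻¹, ⟨?_, ?_⟩, by rw [map_mul, map_mul, map_inv]⟩
      · have := conj_Kb (p := p) (g := ρ) (u := x) (P.K_le_S x h5.1) _ hg.1
        rwa [← map_inv, ← map_mul, ← map_mul] at this
      · have := conj_Kb (p := p) (g := ρ) (u := w) h5.2 _ hg.2
        rwa [← map_inv, ← map_mul, ← map_mul] at this
    · intro ρ hρ hj
      have h5 : (ρ : G) ∈ P.K x ⊓ P.S w := hRB hρ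
      refine key_step hA hr hrp hxy (P.symm hyw) hodd hRp htY ht1 ht2 hρ h5.1 ?_
      rw [← hφ, ht]
      exact hj
  -- `H`
  set D := P.K x ⊓ P.K w ⊓ H with hD
  have hHD : ∀ h ∈ H, ∀ d ∈ D, h * d * h⁻¹ ∈ D := fun h hh d hd =>
    ⟨⟨conj_K' (hHx hh) hd.1.1, conj_K' (hHw hh) hd.1.2⟩, H.mul_mem (H.mul_mem hh hd.2) (H.inv_mem hh)⟩
  have hQH : QL ⊓ X ≤ P.img y H := by
    rintro f ⟨hf1, hf2⟩
    obtain ⟨g, hg, hg', rfl⟩ := mem_img.1 (hXL' hf2)
    have hf3 := hQLS hf1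
    rw [hS'] at hf3
    obtain ⟨⟨-, h3⟩, ⟨-, h4⟩⟩ := hf3
    exact mem_img.2 ⟨g, hH g hg.1 hg.2 (congrArg Subtype.val h3) (congrArg Subtype.val h4), hg', rfl⟩
  have hb1 : (JJ P p x y w).relIndex (QL ⊓ X) ≤ (P.img y D).relIndex (QL ⊓ X) :=
    Subgroup.relIndex_le_of_le_left ((img_mono inf_le_left).trans img_le_JJ) (Subgroup.index_ne_zero_of_finite)
  have hb2 : (P.img y D).relIndex (QL ⊓ X) ≤ r ^ ((P.img y D).relIndex (P.img y H)).factorization r := by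
    refine relIndex_le_pow ?_ hQH (hQLp.to_le inf_le_left)
    intro h hh d hd
    obtain ⟨a, ha, ha', rfl⟩ := mem_img.1 hh
    obtain ⟨b, hb, hb', rfl⟩ := mem_img.1 hd
    refine mem_img.2 ⟨a * b * a⁻¹, hHD a ha b hb, mul_mem (mul_mem ha' hb') (inv_mem ha'), ?_⟩
    rw [← map_inv, ← map_mul, ← map_mul]
    rfl
  have hDH : D ≤ H := inf_le_right
  have hb3 : (P.img y D).relIndex (P.img y H) ∣ D.relIndex H := by
    have := relIndex_map_dvd φ (D := D.subgroupOf (P.S y)) (H := H.subgroupOf (P.S y))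
    rwa [Subgroup.relIndex_subgroupOf hHy] at this
  have h0 : D.relIndex H ≠ 0 := (Subgroup.index_ne_zero_of_finite (H := D.subgroupOf H))
  have hb4 : ((P.img y D).relIndex (P.img y H)).factorization r ≤ (D.relIndex H).factorization r :=
    (Nat.factorization_le_iff_dvd (Subgroup.index_ne_zero_of_finite) h0).2 hb3 r
  have hb5 : (KM P y w).relIndex R ≤ r ^ (D.relIndex H).factorization r :=
    hkey.trans (hb1.trans (hb2.trans (Nat.pow_le_pow_right hr.pos hb4)))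
  -- `R ∩ K w`
  have hb6 : Nat.card ↥(KM P y w ⊓ R) ≤ r ^ (Nat.card ↥(P.K x ⊓ P.K w)).factorization r := by
    have h3 : IsPGroup r ↥(KM P y w ⊓ R) := hRp.to_le inf_le_right
    obtain ⟨n, hn⟩ := IsPGroup.iff_card.1 h3
    have hKK : P.K x ⊓ P.K w ≤ P.S y := fun g hg => hg.1.2 y hxy
    have h4 : Nat.card ↥(KM P y w ⊓ R) ∣ Nat.card ↥(P.K x ⊓ P.K w) := by
      rw [← Nat.card_congr (Subgroup.subgroupOfEquivOfLe hKK).toEquiv]
      apply Subgroup.card_dvd_of_le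
      rintro g ⟨hg, hg'⟩
      have h5 : (g : G) ∈ P.K x ⊓ P.S w := hRB hg'
      exact ⟨h5.1, hg⟩
    rw [hn] at h4 ⊢
    exact Nat.pow_le_pow_right hr.pos ((hr.pow_dvd_iff_le_factorization Nat.card_pos.ne').1 h4)
  have hb7 : Nat.card ↥(KM P y w ⊓ R) * (KM P y w).relIndex R = Nat.card ↥R := by
    have := card_mul_relIndex (D := KM P y w ⊓ R) (H := R) inf_le_right
    rwa [Subgroup.inf_relIndex_right] at this
  have hb8 : r ^ (Nat.card ↥(P.K x ⊓ P.S w)).factorization r ≤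
      r ^ ((Nat.card ↥(P.K x ⊓ P.K w)).factorization r + (D.relIndex H).factorization r) := by
    rw [← hRcard, ← hb7, pow_add]
    exact Nat.mul_le_mul hb6 hb5
  have hb9 := (Nat.pow_le_pow_iff_right hr.one_lt).1 hb8
  have hb10 : (Nat.card ↥H).factorization r = (Nat.card ↥D).factorization r + (D.relIndex H).factorization r := by
    rw [← card_mul_relIndex hDH, Nat.factorization_mul Nat.card_pos.ne' h0, Finsupp.add_apply]
  omega

theorem T2_le (F : Facts P) {v a b a' b' : V} (ha : P.adj v a) (hb : P.adj v b) (hab : a ≠ b) (ha' : P.adj v a')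
    (hb' : P.adj v b') (hab' : a' ≠ b') : P.T2 v a b ≤ P.T2 v a' b' := by
  obtain ⟨g, hg, h1, h2⟩ := F.two_trans ha hb hab ha' hb' hab'
  unfold Pol.T2
  refine Nat.card_le_card_of_injective (fun f => ⟨P.toPerm v ⟨g, hg⟩ * f * (P.toPerm v ⟨g, hg⟩)⁻¹, ?_⟩) ?_
  · obtain ⟨k, hk, hk', e⟩ := mem_img.1 f.2
    refine mem_img.2 ⟨g * k * g⁻¹, ⟨?_, ?_⟩, mul_mem (mul_mem hg hk') (inv_mem hg), ?_⟩
    · have h3 : k • a = a := hk.1
      show (g * k * g⁻¹) • a' = a'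
      rw [← h1, mul_smul, mul_smul, inv_smul_smul, h3]
    · have h3 : k • b = b := hk.2
      show (g * k * g⁻¹) • b' = b'
      rw [← h2, mul_smul, mul_smul, inv_smul_smul, h3]
    · rw [← e, ← map_inv, ← map_mul, ← map_mul]
      rfl
  · intro f f' hff
    have h3 := congrArg Subtype.val hff
    simp only at h3
    exact Subtype.ext (mul_left_cancel (mul_right_cancel h3))

end main

/-- K2: the key lemma in the non-affine case -/
theorem st_key_nonaff : StKeyNonaff.{u, v} := by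
  intro G _ _ V _ _ P F p hA x y y' z hxy hxz hyz ho r hr hrp X hXL' hXn hsw hmin hodd
  obtain ⟨w, hyw, hxw⟩ := exists_other (P := P) (x := y) (y := x)
  obtain ⟨pth, hpth, hp1, hp2, hp3, hpH⟩ := exists_good_path F hxy hyw (Ne.symm hxw) ho
  have hn : 4 ≤ P.n := by rcases P.hn with h | h | h <;> omega
  obtain ⟨x', hx'⟩ := F.exists_opp x
  have hPS : ∀ i, i ≤ P.n + 1 → P.H pth ≤ P.S (pth i) := fun i hi g hg => mem_PS.1 hg i hi
  have h1 := card_le hA hxy hyw hxw hr hrp X hXL' hXn hsw hmin hodd hpH (by have := hPS 1 (by omega); rwa [hp1] at this)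
    (by have := hPS 2 (by omega); rwa [hp2] at this) (by have := hPS 3 (by omega); rwa [hp3] at this)
  have h2 := F.count_main (i := 1) hr hpth (by omega) (x' := x') (by rw [hp1]; exact hx')
  rw [hp1, hp3] at h2
  have h3 := F.count_T2 (i := 0) hx' hpth (by omega) hp1
  rw [hp2] at h3
  have h4 := congrArg (fun k => k.factorization r) h3
  have hidx : P.idx x x' ≠ 0 := Subgroup.index_ne_zero_of_finite
  rw [Nat.factorization_mul T2_ne_zero Nat.card_pos.ne', Nat.factorization_mul hidx Nat.card_pos.ne', Finsupp.add_apply,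
    Finsupp.add_apply] at h4
  have h5 : P.T2 x (pth 0) y = P.T2 x y z := by
    have h6 : P.adj x (pth 0) := by
      have := hpth.1 0 (by omega)
      rw [hp1] at this
      exact P.symm this
    have h7 : pth 0 ≠ y := by
      have := hpth.2 0 (by omega)
      rw [hp2] at this
      exact this.symm
    exact le_antisymm (T2_le F h6 hxy h7 hxy hxz hyz) (T2_le F hxy hxz hyz h6 hxy h7)
  rw [h5] at h4
  omega

end Cfsg.Agent.H803.RK
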